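import Mathlib
import Groth.Prelude.Def_Algz

/-!
# Elementary properties of `Algz.codimPt` and of systems
-/

set_option autoImplicit false
universe u

namespace Groth.Agent.AlgzDelta

variable {Y : Type u} [TopologicalSpace Y]

lemma codimPt_self (w : Y) (h : w ⤳ w) : Algz.codimPt w w h = 0 := by
  rw [Algz.codimPt, Order.height_eq_zero]
  intro a _
  exact a.2

lemma one_le_codimPt [T0Space Y] {w v : Y} (h : w ⤳ v) (hne : w ≠ v) : 1 ≤ Algz.codimPt w v h := by
  rw [ENat.one_le_iff_ne_zero]
  intro h0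
  rw [Algz.codimPt, Order.height_eq_zero] at h0
  have := h0 (b := ⟨Specialization.toEquiv v, Set.self_mem_Ici⟩)
    (Specialization.toEquiv_le_toEquiv.mpr h)
  exact hne (Inseparable.eq (h.antisymm (Specialization.toEquiv_le_toEquiv.mp this)))

lemma codimPt_le_one [T0Space Y] {w v : Y} (h : w ⤳ v)
    (himm : ∀ z : Y, w ⤳ z → z ⤳ v → z = w ∨ z = v) : Algz.codimPt w v h ≤ 1 := by
  show Order.height _ ≤ ((1 : ℕ) : ℕ∞)
  rw [Order.height_le_coe_iff]
  rintro ⟨z, hz⟩ hlt
  obtain ⟨z, rfl⟩ := Specialization.toEquiv.surjective z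
  have hle : Specialization.toEquiv z ≤ Specialization.toEquiv w := hlt.le
  rcases himm z (Specialization.toEquiv_le_toEquiv.mp hle)
    (Specialization.toEquiv_le_toEquiv.mp hz) with rfl | rfl
  · exact absurd hlt (lt_irrefl _)
  · have : Order.height (⟨Specialization.toEquiv z, hz⟩ : Set.Ici (Specialization.toEquiv z)) = 0 := by
      rw [Order.height_eq_zero]
      intro a _
      exact a.2
    rw [this]; norm_num

lemma codimPt_mono {w v v' : Y} (h : w ⤳ v) (h' : v ⤳ v') :
    Algz.codimPt w v h ≤ Algz.codimPt w v' (h.trans h') :=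
  Order.height_le_height_apply_of_strictMono
    (fun x : Set.Ici (Specialization.toEquiv v) =>
      (⟨x.1, le_trans (Specialization.toEquiv_le_toEquiv.mpr h') x.2⟩ :
        Set.Ici (Specialization.toEquiv v')))
    (fun _ _ hxy => hxy) _

end Groth.Agent.AlgzDelta
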